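import Mathlib
import Cfsg.Prelude.Def_LieTwisted
import Cfsg.Agent.Lib.Helper5.Tw2E6BN
import Cfsg.Agent.Lib.Helper5.ChevXGL

set_option autoImplicit false

/-!
# Farm 2E6EV (S2182): the three classes of involutions of `²E₆(q)`, `q` even — definitions

Everything is stated in `GL chevE6.Idx K` for the subgroup `twistedE6 K q`; words of the twisted
Weyl group `W¹ ≅ W(F₄)` are lists `Js` of orbits (`∀ J ∈ Js, J ∈ orbits`), acting through
`Js.flatten`.
-/

namespace Cfsg.Agent.Lib.Helper5.Tw6Ev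

open Cfsg Cfsg.Lie Cfsg.Agent.Lib.Helper5.ChevSym Cfsg.Agent.Lib.Helper5.ChevStruct
  Cfsg.Agent.Lib.Helper5.Tw2E6

/-- the orbit of fundamental reflections of `E₆` attached to the node `i` of `F₄`, in the numbering
of `chevF4` (nodes `0, 1` short, `2, 3` long) -/
def orbOf (i : ℕ) : List ℕ := [[0, 5], [2, 4], [3], [1]].getD i []

/-- the word of `E₆` attached to a word of `F₄` -/
def flatF (w : List ℕ) : List ℕ := (w.map orbOf).flatten

/-- representatives of the seven classes of involutions of `W(F₄)` (as in the farm F4EV) -/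
def repF : List (List ℕ) :=
  [[0], [3], [0, 3], [1, 2, 1, 2], [2, 1, 2, 0, 1, 2, 0, 1, 0], [3, 2, 1, 2, 3, 2, 1, 2, 1],
   [3, 2, 1, 2, 0, 1, 2, 3, 2, 1, 2, 0, 1, 2, 3, 2, 1, 2, 0, 1, 2, 0, 1, 0]]

/-- the seven representatives as lists of orbits -/
def repJ (j : ℕ) : List (List ℕ) := (repF.getD j []).map orbOf

/-- the seven representatives as words of `E₆` -/
def rep (j : ℕ) : List ℕ := (repJ j).flatten

/-- the longest element, as a word in the orbits -/
def w0E : List ℕ := rep 6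

theorem repJ_mem : ∀ j < 7, ∀ J ∈ repJ j, J ∈ orbits := by decide

variable (K : Type*) [Field K]

/-- the unipotent representatives: `x_a(1)` (`a = 71` the highest root), `x_b(1) x_b̄(1)`
(`{b, b̄} = {66, 68}`), `x_a(1) x_b(1) x_b̄(1)`, and `x_α(1) x_ᾱ(1) x_β(1)`
(`{α, ᾱ} = {54, 64}`, `β = 69`); the second and the third are conjugate in `²E₆(q)` -/
def yE : Fin 4 → GL chevE6.Idx K :=
  ![xGL chevE6 hE6 71 1,
    xGL chevE6 hE6 66 1 * xGL chevE6 hE6 68 1,
    xGL chevE6 hE6 71 1 * (xGL chevE6 hE6 66 1 * xGL chevE6 hE6 68 1),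
    xGL chevE6 hE6 54 1 * xGL chevE6 hE6 64 1 * xGL chevE6 hE6 69 1]

end Cfsg.Agent.Lib.Helper5.Tw6Ev
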