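import Mathlib
import Cfsg.Agent.Lib.Helper5.Tw6Ev.TblData
import Cfsg.Agent.Lib.Helper5.ChevWTbl
import Cfsg.Agent.Lib.Helper5.ChevW0
import Cfsg.Agent.Lib.Helper5.ChevWRel

set_option autoImplicit false

/-!
# Farm 2E6EV, unit T: every involution of the twisted Weyl group is conjugate to one of seven
-/

namespace Cfsg.Agent.Lib.Helper5.Tw6Ev

open Cfsg Cfsg.Lie Cfsg.Agent.Lib.Helper5.ChevSym Cfsg.Agent.Lib.Helper5.ChevStruct
  Cfsg.Agent.Lib.Helper5.Tw2E6

theorem rank6 : chevE6.rank = 6 := rfl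

theorem nroots6 : chevE6.nroots = 72 := rfl

theorem orbOf_lt : ∀ i < 4, ∀ j ∈ orbOf i, j < chevE6.rank := by decide

theorem orbOf_wd (i : ℕ) (hi : i < 4) : Wd chevE6 (orbOf i) := orbOf_lt i hi

theorem flatF_nil : flatF [] = [] := rfl

theorem flatF_cons (g : ℕ) (w : List ℕ) : flatF (g :: w) = orbOf g ++ flatF w := by
  simp [flatF]

theorem flatF_append (a b : List ℕ) : flatF (a ++ b) = flatF a ++ flatF b := by
  simp [flatF]

theorem flatF_wd (w : List ℕ) (hw : ∀ i ∈ w, i < 4) : Wd chevE6 (flatF w) := by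
  induction w with
  | nil => exact Wd.nil chevE6
  | cons g w ih =>
    rw [flatF_cons]
    exact (orbOf_wd g (hw g List.mem_cons_self)).append
      (ih fun i hi => hw i (List.mem_cons_of_mem _ hi))

theorem orbActC_eq (i r : ℕ) : orbActC i r = wAct chevE6 (orbOf i) r := wActC_eq _ _ _

theorem wAct_nil' (r : ℕ) : wAct chevE6 [] r = r := rfl

theorem simples6_getD (k : ℕ) (hk : k < 6) : simples6.getD k 0 = chevE6.simple k := by
  unfold simples6
  rw [getD_map_of_lt _ _ k (by simpa using hk), getD_range_of_lt _ _ hk]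

theorem simples6_length : simples6.length = 6 := by simp [simples6]

theorem eq_of_getD {l l' : List ℕ} (h1 : l.length = 6) (h2 : l'.length = 6)
    (h : ∀ k < 6, l.getD k 0 = l'.getD k 0) : l = l' := by
  apply List.ext_getElem (by rw [h1, h2])
  intro k hk1 hk2
  have := h k (by rw [← h1]; exact hk1)
  rwa [List.getD_eq_getElem _ _ hk1, List.getD_eq_getElem _ _ hk2] at this

/-- what the check of a record says -/
theorem checkW1_spec (tbl : List W1Rec) (t : ℕ) (h : checkW1 tbl t = true) :
    ((t = 0 ∧ (tbl.getD t default).wd = [] ∧ (tbl.getD t default).img = simples6) ∨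
      ∃ g w', (tbl.getD t default).wd = g :: w' ∧ (tbl.getD t default).par < t ∧ g < 4 ∧
        (tbl.getD (tbl.getD t default).par default).wd = w' ∧
        (tbl.getD t default).img
          = (tbl.getD (tbl.getD t default).par default).img.map (orbActC g)) ∧
    (tbl.getD t default).img.length = 6 ∧
    (∀ i < 4, (tbl.getD t default).nxt.getD i 0 < tbl.length ∧
      (tbl.getD ((tbl.getD t default).nxt.getD i 0) default).img
        = (tbl.getD t default).img.map (orbActC i)) ∧
    (((tbl.getD t default).cj < 7 ∧ (tbl.getD t default).cu < tbl.length ∧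
        foldIdx tbl ((tbl.getD (tbl.getD t default).cu default).wd ++ (tbl.getD t default).wd ++
          (tbl.getD (tbl.getD t default).cu default).wd.reverse) 0
        = foldIdx tbl (repF.getD (tbl.getD t default).cj []) 0) ∨
      (¬ (tbl.getD t default).cj < 7 ∧ (t = 0 ∨
        (tbl.getD (foldIdx tbl (tbl.getD t default).wd t) default).img ≠ simples6))) := by
  unfold checkW1 at h
  simp only [Bool.and_eq_true] at h
  obtain ⟨⟨⟨h1, h2⟩, h3⟩, h4⟩ := h
  refine ⟨?_, ?_, ?_, ?_⟩
  · rcases t with _ | t'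
    · rcases hw : (tbl.getD 0 default).wd with _ | ⟨g, w'⟩
      · rw [hw] at h1
        left
        exact ⟨rfl, rfl, (lbeq_spec _ _).1 h1⟩
      · rw [hw] at h1
        exact absurd h1 (by simp)
    · rcases hw : (tbl.getD (t' + 1) default).wd with _ | ⟨g, w'⟩
      · rw [hw] at h1
        exact absurd h1 (by simp)
      · rw [hw] at h1
        simp only [Bool.and_eq_true, Nat.blt_eq] at h1
        obtain ⟨⟨⟨a1, a2⟩, a3⟩, a4⟩ := h1
        right
        exact ⟨g, w', rfl, a1, a2, (lbeq_spec _ _).1 a3, (lbeq_spec _ _).1 a4⟩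
  · rwa [Nat.beq_eq] at h2
  · intro i hi
    rw [List.all_eq_true] at h3
    have := h3 i (List.mem_range.2 hi)
    simp only [Bool.and_eq_true, Nat.blt_eq] at this
    exact ⟨this.1, (lbeq_spec _ _).1 this.2⟩
  · by_cases hc : (tbl.getD t default).cj < 7
    · left
      have hc' : Nat.blt (tbl.getD t default).cj 7 = true := by rw [Nat.blt_eq]; exact hc
      rw [hc', if_pos rfl] at h4
      simp only [Bool.and_eq_true, Nat.blt_eq, Nat.beq_eq] at h4
      exact ⟨hc, h4.1, h4.2⟩
    · right
      have hc' : Nat.blt (tbl.getD t default).cj 7 = false := by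
        rw [← Bool.not_eq_true, Nat.blt_eq]; exact hc
      rw [hc'] at h4
      simp only [Bool.false_eq_true, if_false, Bool.or_eq_true, Nat.beq_eq,
        Bool.not_eq_true'] at h4
      refine ⟨hc, ?_⟩
      rcases h4 with h4 | h4
      · exact Or.inl h4
      · right
        intro e
        have := (lbeq_spec _ _).2 e
        rw [this] at h4
        exact Bool.noConfusion h4

section table

variable (tbl : List W1Rec) (hchk : ∀ t < tbl.length, checkW1 tbl t = true)

include hchk

/-- the words of the table have letters `< 4` and the images are the images -/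
theorem facts : ∀ t < tbl.length, (∀ i ∈ (tbl.getD t default).wd, i < 4) ∧
    ∀ k < 6, wAct chevE6 (flatF (tbl.getD t default).wd) (chevE6.simple k)
      = (tbl.getD t default).img.getD k 0 := by
  intro t
  induction t using Nat.strong_induction_on with
  | _ t ih =>
    intro ht
    obtain ⟨h1, -, -, -⟩ := checkW1_spec tbl t (hchk t ht)
    rcases h1 with ⟨-, hwd, himg⟩ | ⟨g, w', hwd, hpar, hg, hpw, himg⟩
    · rw [hwd, himg]
      refine ⟨by simp, fun k hk => ?_⟩
      rw [flatF_nil, wAct_nil', simples6_getD k hk]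
    · have hp : (tbl.getD t default).par < tbl.length := lt_trans hpar ht
      obtain ⟨f1, f2⟩ := ih _ hpar hp
      have hlen := (checkW1_spec tbl _ (hchk _ hp)).2.1
      rw [hpw] at f1 f2
      rw [hwd, himg]
      refine ⟨?_, fun k hk => ?_⟩
      · intro i hi
        rcases List.mem_cons.1 hi with rfl | hi
        · exact hg
        · exact f1 i hi
      · rw [getD_map_of_lt _ _ k (by rw [hlen]; exact hk), ← f2 k hk, flatF_cons, wAct_append,
          orbActC_eq]

/-- following the pointers multiplies on the left -/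
theorem fold_facts (a : List ℕ) (ha : ∀ i ∈ a, i < 4) (t : ℕ) (ht : t < tbl.length) :
    foldIdx tbl a t < tbl.length ∧
    ∀ k < 6, (tbl.getD (foldIdx tbl a t) default).img.getD k 0
      = wAct chevE6 (flatF a) ((tbl.getD t default).img.getD k 0) := by
  induction a with
  | nil => exact ⟨ht, fun k _ => rfl⟩
  | cons i a ih =>
    obtain ⟨h1, h2⟩ := ih fun j hj => ha j (List.mem_cons_of_mem _ hj)
    have hi : i < 4 := ha i List.mem_cons_self
    obtain ⟨-, hlen, hn, -⟩ := checkW1_spec tbl _ (hchk _ h1)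
    obtain ⟨n1, n2⟩ := hn i hi
    have e : foldIdx tbl (i :: a) t
        = (tbl.getD (foldIdx tbl a t) default).nxt.getD i 0 := rfl
    rw [e]
    refine ⟨n1, fun k hk => ?_⟩
    rw [n2, getD_map_of_lt _ _ k (by rw [hlen]; exact hk), h2 k hk, flatF_cons, wAct_append,
      orbActC_eq]

end table

theorem tbl_pos : 0 < w1tbl.length := by rw [w1tbl_length]; norm_num

theorem chk_all : ∀ t < w1tbl.length, checkW1 w1tbl t = true := fun t ht =>
  chkW1 t (by rw [w1tbl_length] at ht; exact ht)

theorem img0 (k : ℕ) (hk : k < 6) : (w1tbl.getD 0 default).img.getD k 0 = chevE6.simple k := by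
  obtain ⟨h1, -, -, -⟩ := checkW1_spec w1tbl 0 (chk_all 0 tbl_pos)
  rcases h1 with ⟨-, -, himg⟩ | ⟨g, w', -, hpar, -⟩
  · rw [himg, simples6_getD k hk]
  · exact absurd hpar (Nat.not_lt_zero _)

theorem wd0 : (w1tbl.getD 0 default).wd = [] := by
  obtain ⟨h1, -, -, -⟩ := checkW1_spec w1tbl 0 (chk_all 0 tbl_pos)
  rcases h1 with ⟨-, hwd, -⟩ | ⟨g, w', -, hpar, -⟩
  · exact hwd
  · exact absurd hpar (Nat.not_lt_zero _)

/-- the index of a word, with the action of the word on the fundamental roots -/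
theorem idx_facts (a : List ℕ) (ha : ∀ i ∈ a, i < 4) :
    foldIdx w1tbl a 0 < w1tbl.length ∧
    ∀ k < 6, (w1tbl.getD (foldIdx w1tbl a 0) default).img.getD k 0
      = wAct chevE6 (flatF a) (chevE6.simple k) := by
  obtain ⟨h1, h2⟩ := fold_facts w1tbl chk_all a ha 0 tbl_pos
  refine ⟨h1, fun k hk => ?_⟩
  rw [h2 k hk, img0 k hk]

/-- **cover**: every word acts like the word of its record -/
theorem cover (a : List ℕ) (ha : ∀ i ∈ a, i < 4) : ∀ r < 72,
    wAct chevE6 (flatF a) r
      = wAct chevE6 (flatF (w1tbl.getD (foldIdx w1tbl a 0) default).wd) r := by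
  obtain ⟨h1, h2⟩ := idx_facts a ha
  obtain ⟨f1, f2⟩ := facts w1tbl chk_all _ h1
  apply wAct_eq_of_simple chevE6 hE6 _ _ (flatF_wd a ha) (flatF_wd _ f1)
  intro k hk
  rw [f2 k hk, h2 k hk]

theorem repF_lt : ∀ j < 7, ∀ i ∈ repF.getD j [], i < 4 := by decide

theorem rep_eq (j : ℕ) : rep j = flatF (repF.getD j []) := rfl

/-- words with the same index act in the same way -/
theorem act_eq_of_idx (a b : List ℕ) (ha : ∀ i ∈ a, i < 4) (hb : ∀ i ∈ b, i < 4)
    (h : foldIdx w1tbl a 0 = foldIdx w1tbl b 0) :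
    ∀ r < 72, wAct chevE6 (flatF a) r = wAct chevE6 (flatF b) r := by
  apply wAct_eq_of_simple chevE6 hE6 _ _ (flatF_wd a ha) (flatF_wd b hb)
  intro k hk
  rw [← (idx_facts a ha).2 k hk, ← (idx_facts b hb).2 k hk, h]

theorem wAct_lt6 (w : List ℕ) (hw : Wd chevE6 w) (r : ℕ) (hr : r < 72) :
    wAct chevE6 w r < 72 := wAct_lt chevE6 hE6 w hw r hr

/-- unit T for words of `F₄` -/
theorem T_words (a : List ℕ) (ha : ∀ i ∈ a, i < 4)
    (h2 : ∀ r < 72, wAct chevE6 (flatF a ++ flatF a) r = r)
    (hne : ∃ r < 72, wAct chevE6 (flatF a) r ≠ r) :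
    ∃ u : List ℕ, (∀ i ∈ u, i < 4) ∧ ∃ j < 7, ∀ r < 72,
      wAct chevE6 (flatF u ++ flatF a ++ flatF u.reverse) r = wAct chevE6 (rep j) r := by
  set t := foldIdx w1tbl a 0 with ht
  obtain ⟨htl, hti⟩ := idx_facts a ha
  have hact := cover a ha
  obtain ⟨f1, f2⟩ := facts w1tbl chk_all t htl
  obtain ⟨-, hlen, -, h4⟩ := checkW1_spec w1tbl t (chk_all t htl)
  rcases h4 with ⟨hcj, hcu, hfold⟩ | ⟨-, h0 | himg⟩
  · -- an involution with its conjugator
    obtain ⟨u1, -⟩ := facts w1tbl chk_all _ hcu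
    set u := (w1tbl.getD (w1tbl.getD t default).cu default).wd with hu
    refine ⟨u, u1, (w1tbl.getD t default).cj, hcj, ?_⟩
    have hur : ∀ i ∈ u.reverse, i < 4 := fun i hi => u1 i (List.mem_reverse.1 hi)
    have hW : ∀ i ∈ u ++ (w1tbl.getD t default).wd ++ u.reverse, i < 4 := by
      intro i hi
      rcases List.mem_append.1 hi with hi | hi
      · rcases List.mem_append.1 hi with hi | hi
        · exact u1 i hi
        · exact f1 i hi
      · exact hur i hi
    have key := act_eq_of_idx _ _ hW (repF_lt _ hcj) hfold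
    intro r hr
    rw [rep_eq, ← key r hr, flatF_append, flatF_append, wAct_append, wAct_append, wAct_append,
      wAct_append]
    congr 1
    exact hact _ (wAct_lt6 _ (flatF_wd _ hur) r hr)
  · -- the identity
    exfalso
    obtain ⟨r, hr, hr2⟩ := hne
    apply hr2
    rw [hact r hr, ← ht, h0, wd0, flatF_nil, wAct_nil']
  · -- not an involution
    exfalso
    apply himg
    obtain ⟨g1, g2⟩ := fold_facts w1tbl chk_all _ f1 t htl
    have hlen2 := (checkW1_spec w1tbl _ (chk_all _ g1)).2.1
    apply eq_of_getD hlen2 simples6_length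
    intro k hk
    have hk' : chevE6.simple k < 72 := simple_lt chevE6 hE6 k hk
    rw [g2 k hk, ← f2 k hk, simples6_getD k hk, ← hact _ (wAct_lt6 _ (flatF_wd _ f1) _ hk'),
      ← hact _ hk', ← wAct_append]
    exact h2 _ hk'

theorem orb_rev_act : ∀ i < 4, ∀ r < 72,
    wAct chevE6 (orbOf i).reverse r = wAct chevE6 (orbOf i) r := by decide +kernel

/-- reversing the word of `F₄` or the word of `E₆` gives the same action -/
theorem wAct_flatF_reverse (u : List ℕ) (hu : ∀ i ∈ u, i < 4) : ∀ r < 72,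
    wAct chevE6 (flatF u).reverse r = wAct chevE6 (flatF u.reverse) r := by
  induction u with
  | nil => intro r _; rfl
  | cons g u ih =>
    intro r hr
    have hg : g < 4 := hu g List.mem_cons_self
    have hu' : ∀ i ∈ u, i < 4 := fun i hi => hu i (List.mem_cons_of_mem _ hi)
    rw [flatF_cons, List.reverse_append, List.reverse_cons, flatF_append, wAct_append,
      wAct_append, ih hu' _ (wAct_lt6 _ (orbOf_wd g hg).reverse r hr)]
    congr 1
    have e : flatF [g] = orbOf g := by simp [flatF]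
    rw [e]
    exact orb_rev_act g hg r hr

theorem exists_word_of_orbits (Js : List (List ℕ)) (hJs : ∀ J ∈ Js, J ∈ orbits) :
    ∃ a : List ℕ, (∀ i ∈ a, i < 4) ∧ Js = a.map orbOf := by
  induction Js with
  | nil => exact ⟨[], by simp, rfl⟩
  | cons J Js ih =>
    obtain ⟨a, ha, e⟩ := ih fun J' hJ' => hJs J' (List.mem_cons_of_mem _ hJ')
    have hJ := hJs J List.mem_cons_self
    simp only [orbits, List.mem_cons, List.not_mem_nil, or_false] at hJ
    have key : ∃ g < 4, J = orbOf g := by
      rcases hJ with rfl | rfl | rfl | rfl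
      · exact ⟨0, by norm_num, rfl⟩
      · exact ⟨3, by norm_num, rfl⟩
      · exact ⟨1, by norm_num, rfl⟩
      · exact ⟨2, by norm_num, rfl⟩
    obtain ⟨g, hg, rfl⟩ := key
    refine ⟨g :: a, ?_, by rw [List.map_cons, e]⟩
    intro i hi
    rcases List.mem_cons.1 hi with rfl | hi
    · exact hg
    · exact ha i hi

theorem orbOf_mem : ∀ i < 4, orbOf i ∈ orbits := by decide

/-- Unit T: the involutions of the twisted Weyl group, up to conjugacy -/
theorem T_reps (Js : List (List ℕ)) (hJs : ∀ J ∈ Js, J ∈ orbits)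
    (h2 : ∀ r < 72, wAct chevE6 (Js.flatten ++ Js.flatten) r = r)
    (hne : ∃ r < 72, wAct chevE6 Js.flatten r ≠ r) :
    ∃ Us : List (List ℕ), (∀ J ∈ Us, J ∈ orbits) ∧ ∃ j < 7, ∀ r < 72,
      wAct chevE6 (Us.flatten ++ Js.flatten ++ Us.flatten.reverse) r = wAct chevE6 (rep j) r := by
  obtain ⟨a, ha, rfl⟩ := exists_word_of_orbits Js hJs
  obtain ⟨u, hu, j, hj, h⟩ := T_words a ha h2 hne
  refine ⟨u.map orbOf, ?_, j, hj, ?_⟩
  · intro J hJ
    obtain ⟨i, hi, rfl⟩ := List.mem_map.1 hJ
    exact orbOf_mem i (hu i hi)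
  · intro r hr
    rw [← h r hr]
    show wAct chevE6 (flatF u ++ flatF a ++ (flatF u).reverse) r = _
    rw [wAct_append, wAct_append, wAct_append, wAct_append, wAct_flatF_reverse u hu r hr]

end Cfsg.Agent.Lib.Helper5.Tw6Ev
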