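import Mathlib
import Cfsg.Agent.Lib.Helper5.Tw6Ev.Defs
import Cfsg.Agent.Lib.Helper5.ChevW0Def

set_option autoImplicit false

/-!
# Farm 2E6EV, unit T: the table of the twisted Weyl group `W¹ ≅ W(F₄)` inside `W(E₆)` — the checker
-/

namespace Cfsg.Agent.Lib.Helper5.Tw6Ev

open Cfsg Cfsg.Lie Cfsg.Agent.Lib.Helper5.ChevSym Cfsg.Agent.Lib.Helper5.ChevStruct
  Cfsg.Agent.Lib.Helper5.Tw2E6

/-- a record of the table: the word `wd` (letters of `F₄`), the index `par` of the record of its
tail, the images `img` of the six fundamental roots of `E₆`, the indices `nxt` of the records of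
`i :: wd`, and for an involution the index `cu` of a conjugating record and the index `cj < 7` of the
representative (`cj = 7` otherwise) -/
structure W1Rec where
  wd : List ℕ
  par : ℕ
  img : List ℕ
  nxt : List ℕ
  cu : ℕ
  cj : ℕ
deriving Inhabited

/-- equality of lists of natural numbers -/
def lbeq : List ℕ → List ℕ → Bool
  | [], [] => true
  | a :: l, b :: l' => Nat.beq a b && lbeq l l'
  | [], _ :: _ => false
  | _ :: _, [] => false

theorem lbeq_spec : ∀ (l l' : List ℕ), lbeq l l' = true ↔ l = l'
  | [], [] => by simp [lbeq]
  | a :: l, b :: l' => by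
    unfold lbeq
    rw [Bool.and_eq_true, Nat.beq_eq, lbeq_spec l l', List.cons.injEq]
  | [], _ :: _ => by simp [lbeq]
  | _ :: _, [] => by simp [lbeq]

/-- the action of the orbit attached to the node `i` of `F₄` -/
def orbActC (i r : ℕ) : ℕ := wActC chevE6 (orbOf i) r

/-- the fundamental roots of `E₆` -/
def simples6 : List ℕ := (List.range 6).map chevE6.simple

/-- the index reached from `t` by multiplying on the left by the letters of `w` -/
def foldIdx (tbl : List W1Rec) (w : List ℕ) (t : ℕ) : ℕ :=
  w.foldr (fun i t => (tbl.getD t default).nxt.getD i 0) t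

/-- the check of the record `t` -/
def checkW1 (tbl : List W1Rec) (t : ℕ) : Bool :=
  (match t, (tbl.getD t default).wd with
    | 0, [] => lbeq (tbl.getD t default).img simples6
    | 0, _ :: _ => false
    | _ + 1, [] => false
    | _ + 1, g :: w' =>
      Nat.blt (tbl.getD t default).par t && Nat.blt g 4 &&
        lbeq (tbl.getD (tbl.getD t default).par default).wd w' &&
        lbeq (tbl.getD t default).img
          ((tbl.getD (tbl.getD t default).par default).img.map (orbActC g))) &&
  Nat.beq (tbl.getD t default).img.length 6 &&
  (List.range 4).all (fun i =>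
    Nat.blt ((tbl.getD t default).nxt.getD i 0) tbl.length &&
      lbeq (tbl.getD ((tbl.getD t default).nxt.getD i 0) default).img
        ((tbl.getD t default).img.map (orbActC i))) &&
  (if Nat.blt (tbl.getD t default).cj 7 then
      Nat.blt (tbl.getD t default).cu tbl.length &&
      Nat.beq
        (foldIdx tbl ((tbl.getD (tbl.getD t default).cu default).wd ++ (tbl.getD t default).wd ++
          (tbl.getD (tbl.getD t default).cu default).wd.reverse) 0)
        (foldIdx tbl (repF.getD (tbl.getD t default).cj []) 0)
    else
      Nat.beq t 0 ||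
        !(lbeq (tbl.getD (foldIdx tbl (tbl.getD t default).wd t) default).img simples6))

/-- the records `lo ≤ t < lo + n` -/
def checkW1Range (tbl : List W1Rec) (lo n : ℕ) : Bool :=
  (List.range n).all fun k => checkW1 tbl (Nat.add lo k)

theorem checkW1Range_spec (tbl : List W1Rec) (lo n : ℕ) (h : checkW1Range tbl lo n = true)
    (t : ℕ) (h1 : lo ≤ t) (h2 : t < lo + n) : checkW1 tbl t = true := by
  unfold checkW1Range at h
  rw [List.all_eq_true] at h
  have := h (t - lo) (List.mem_range.2 (by omega))
  have e : Nat.add lo (t - lo) = t := by show lo + (t - lo) = t; omega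
  rwa [e] at this

end Cfsg.Agent.Lib.Helper5.Tw6Ev
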